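import Cfsg.Agent.Helper2.BN.Exchange

set_option autoImplicit false

namespace Cfsg.Agent.Helper2.BN

open Cfsg DoubleCoset

variable {G : Type*} [Group G] {P : BNPair G}

theorem B_le_parabolic (J : Set G) : P.B ≤ P.parabolic J := le_sup_left

theorem closure_le_parabolic (J : Set G) : Subgroup.closure J ≤ P.parabolic J := le_sup_right

theorem NJ_le_parabolic (J : Set G) : NJ P J ≤ P.parabolic J :=
  sup_le (closure_le_parabolic J) ((H_le_B P).trans (B_le_parabolic J))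

theorem parabolic_mono {J K : Set G} (h : J ⊆ K) : P.parabolic J ≤ P.parabolic K :=
  sup_le_sup_left (Subgroup.closure_mono h) _

theorem C_subset_of_mem {M : Subgroup G} (hM : P.B ≤ M) {n : G} (hn : n ∈ M) {g : G}
    (hg : g ∈ C P n) : g ∈ M := by
  obtain ⟨b, hb, b', hb', rfl⟩ := (mem_C_iff P).mp hg
  exact M.mul_mem (M.mul_mem (hM hb) hn) (hM hb')

theorem mem_of_C_mem {M : Subgroup G} (hM : P.B ≤ M) {n g : G} (hg : g ∈ C P n) (hgM : g ∈ M) :
    n ∈ M := by
  obtain ⟨b, hb, b', hb', rfl⟩ := (mem_C_iff P).mp hg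
  have : n = b⁻¹ * (b * n * b') * b'⁻¹ := by group
  rw [this]
  exact M.mul_mem (M.mul_mem (M.inv_mem (hM hb)) hgM) (M.inv_mem (hM hb'))

/-- `B N_J B` is stable under left multiplication by `N_J` -/
theorem NJ_mul_mem_BNJB {J : Set G} (hJ : J ⊆ P.S) {n' g : G} (hn' : n' ∈ NJ P J)
    (hg : ∃ n ∈ NJ P J, g ∈ C P n) : ∃ n ∈ NJ P J, n' * g ∈ C P n := by
  obtain ⟨k, hk⟩ := (mem_NJ_iff hJ).mp hn'
  induction k generalizing n' g with
  | zero =>
    obtain ⟨n, hn, hgn⟩ := hg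
    exact ⟨n, hn, mul_mem_C P (H_le_B P hk) hgn⟩
  | succ k ih =>
    obtain ⟨r, m, hr, hm, rfl⟩ := hk
    have hmNJ : m ∈ NJ P J := reach_subset_NJ hm
    obtain ⟨n, hn, hgn⟩ := ih hmNJ hg hm
    rw [mul_assoc]
    rcases hr.mul_mem_union hJ (NJ_le_N hJ hn) hgn with h | h
    · exact ⟨r * n, (NJ P J).mul_mem hr.mem_NJ hn, h⟩
    · exact ⟨n, hn, h⟩

/-- `P_J = B N_J B` -/
theorem mem_parabolic_iff {J : Set G} (hJ : J ⊆ P.S) {g : G} :
    g ∈ P.parabolic J ↔ ∃ n ∈ NJ P J, g ∈ C P n := by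
  constructor
  · intro hg
    let X : Set G := {g | ∃ n ∈ NJ P J, g ∈ C P n}
    let K : Subgroup G :=
      { carrier := {g | (∀ x ∈ X, g * x ∈ X) ∧ (∀ x ∈ X, g⁻¹ * x ∈ X)}
        one_mem' := by simp
        mul_mem' := by
          rintro a b ⟨ha1, ha2⟩ ⟨hb1, hb2⟩
          refine ⟨fun x hx => ?_, fun x hx => ?_⟩
          · rw [mul_assoc]; exact ha1 _ (hb1 _ hx)
          · rw [mul_inv_rev, mul_assoc]; exact hb2 _ (ha2 _ hx)
        inv_mem' := by
          rintro a ⟨ha1, ha2⟩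
          refine ⟨ha2, ?_⟩
          rw [inv_inv]; exact ha1 }
    have hB : P.B ≤ K := by
      intro b hb
      refine ⟨?_, ?_⟩
      · rintro x ⟨n, hn, hx⟩
        exact ⟨n, hn, mul_mem_C P hb hx⟩
      · rintro x ⟨n, hn, hx⟩
        exact ⟨n, hn, mul_mem_C P (P.B.inv_mem hb) hx⟩
    have hN : Subgroup.closure J ≤ K := by
      intro n hn
      have hnNJ : n ∈ NJ P J := Subgroup.mem_sup_left hn
      exact ⟨fun x hx => NJ_mul_mem_BNJB hJ hnNJ hx,
        fun x hx => NJ_mul_mem_BNJB hJ ((NJ P J).inv_mem hnNJ) hx⟩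
    have hK : P.parabolic J ≤ K := sup_le hB hN
    have h1 : (1 : G) ∈ X := ⟨1, (NJ P J).one_mem, mem_C_self P 1⟩
    have := (hK hg).1 1 h1
    rwa [mul_one] at this
  · rintro ⟨n, hn, hg⟩
    exact C_subset_of_mem (B_le_parabolic J) (NJ_le_parabolic J hn) hg

/-- every element of `N_J` is congruent modulo `H` to an element of `⟨J⟩` -/
theorem exists_closure_of_mem_NJ {J : Set G} (hJ : J ⊆ P.S) {n : G} (hn : n ∈ NJ P J) :
    ∃ c ∈ Subgroup.closure J, c⁻¹ * n ∈ H P := by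
  obtain ⟨k, hk⟩ := (mem_NJ_iff hJ).mp hn
  induction k generalizing n with
  | zero => exact ⟨1, Subgroup.one_mem _, by rw [inv_one, one_mul]; exact hk⟩
  | succ k ih =>
    obtain ⟨r, m, ⟨s, hs, h1⟩, hm, rfl⟩ := hk
    obtain ⟨c, hc, h2⟩ := ih (reach_subset_NJ hm) hm
    refine ⟨s * c, Subgroup.mul_mem _ (Subgroup.subset_closure hs) hc, ?_⟩
    have hcN : c ∈ P.N := NJ_le_N hJ (Subgroup.mem_sup_left hc)
    have e : (s * c)⁻¹ * (r * m) = (c⁻¹ * (s⁻¹ * r) * c) * (c⁻¹ * m) := by group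
    rw [e]
    exact (H P).mul_mem (conj_mem_H' P hcN h1) h2

theorem mem_parabolic_iff_closure {J : Set G} (hJ : J ⊆ P.S) {g : G} :
    g ∈ P.parabolic J ↔ ∃ n ∈ Subgroup.closure J, g ∈ C P n := by
  rw [mem_parabolic_iff hJ]
  constructor
  · rintro ⟨n, hn, hg⟩
    obtain ⟨c, hc, h⟩ := exists_closure_of_mem_NJ hJ hn
    refine ⟨c, hc, ?_⟩
    have : C P n = C P c := by
      have e : n = c * (c⁻¹ * n) := by group
      rw [e, C_mul_right P (H_le_B P h)]
    rwa [← this]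
  · rintro ⟨n, hn, hg⟩
    exact ⟨n, Subgroup.mem_sup_left hn, hg⟩

/-- an element of `N` lying in a subgroup `M ≥ B` lies in `N_J` for `J = S ∩ M` -/
theorem mem_NJ_of_mem (M : Subgroup G) (hM : P.B ≤ M) (k : ℕ) : ∀ n : G, n ∈ P.N → n ∈ M →
    len P P.S n = k → n ∈ NJ P (P.S ∩ (M : Set G)) := by
  have hSS : P.S ⊆ P.S := subset_refl _
  induction k with
  | zero =>
    intro n hn _ hk
    exact H_le_NJ ((len_eq_zero_iff hSS (mem_NJS_iff.mpr hn)).mp hk)
  | succ k ih =>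
    intro n hn hnM hk
    obtain ⟨r, m, hr, hmNJ, rfl, hlm⟩ := peel_left hSS (mem_NJS_iff.mpr hn) hk
    have hmN : m ∈ P.N := mem_NJS_iff.mp hmNJ
    have hrinv := hr.inv hSS
    have hle : len P P.S (r⁻¹ * (r * m)) ≤ len P P.S (r * m) := by
      rw [inv_mul_cancel_left]; omega
    obtain ⟨x, hx, hrx⟩ := L2 hn hrinv hle
    obtain ⟨b, hb, b', hb', rfl⟩ := (mem_C_iff P).mp hx
    obtain ⟨b1, hb1, b2, hb2, he⟩ := (mem_C_iff P).mp hrx
    have hrM : r⁻¹ ∈ M := by
      have e : r⁻¹ = (r⁻¹ * (b * (r * m) * b')) * b'⁻¹ * (r * m)⁻¹ * b⁻¹ := by group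
      rw [e, he]
      exact M.mul_mem (M.mul_mem (M.mul_mem (M.mul_mem (M.mul_mem (hM hb1) hnM) (hM hb2))
        (M.inv_mem (hM hb'))) (M.inv_mem hnM)) (M.inv_mem (hM hb))
    have hrM' : r ∈ M := by simpa using M.inv_mem hrM
    obtain ⟨s, hs, h1⟩ := hr
    have hsM : s ∈ M := by
      have e : s = r * (s⁻¹ * r)⁻¹ := by group
      rw [e]
      exact M.mul_mem hrM' (M.inv_mem (hM (H_le_B P h1)))
    have hrJ : Simple P (P.S ∩ (M : Set G)) r := ⟨s, ⟨hs, hsM⟩, h1⟩
    have hmM : m ∈ M := by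
      have e : m = r⁻¹ * (r * m) := by group
      rw [e]; exact M.mul_mem hrM hnM
    exact (NJ P _).mul_mem hrJ.mem_NJ (ih m hmN hmM hlm)

/-- every subgroup containing `B` is parabolic -/
theorem eq_parabolic_of_le (M : Subgroup G) (hM : P.B ≤ M) :
    M = P.parabolic (P.S ∩ (M : Set G)) := by
  apply le_antisymm
  · intro g hg
    obtain ⟨n, hn, hgn⟩ := exists_mem_C (P := P) g
    have hnM : n ∈ M := mem_of_C_mem hM hgn hg
    have := mem_NJ_of_mem M hM _ n hn hnM rfl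
    exact C_subset_of_mem (B_le_parabolic _) (NJ_le_parabolic _ this) hgn
  · apply sup_le hM
    rw [Subgroup.closure_le]
    exact fun s hs => hs.2

/-- a distinguished generator lying in `P_K` lies in `K` -/
theorem mem_of_mem_parabolic {K : Set G} (hK : K ⊆ P.S) {s : G} (hs : s ∈ P.S)
    (h : s ∈ P.parabolic K) : s ∈ K := by
  obtain ⟨n, hn, hsn⟩ := (mem_parabolic_iff hK).mp h
  have hsN : s ∈ P.N := P.subset hs
  have h1 := bruhat_unique hsN (NJ_le_N hK hn) (C_eq_of_mem P hsn)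
  apply mem_J_of_mem_NJ hK hs
  have e : s = n * (s⁻¹ * n)⁻¹ := by group
  rw [e]
  exact (NJ P K).mul_mem hn (H_le_NJ ((H P).inv_mem h1))

theorem parabolic_injective {J K : Set G} (hJ : J ⊆ P.S) (hK : K ⊆ P.S)
    (h : P.parabolic J = P.parabolic K) : J = K := by
  apply Set.Subset.antisymm
  · intro s hs
    apply mem_of_mem_parabolic hK (hJ hs)
    rw [← h]
    exact closure_le_parabolic J (Subgroup.subset_closure hs)
  · intro s hs
    apply mem_of_mem_parabolic hJ (hK hs)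
    rw [h]
    exact closure_le_parabolic K (Subgroup.subset_closure hs)

theorem parabolic_inf {J K : Set G} (hJ : J ⊆ P.S) (hK : K ⊆ P.S) :
    P.parabolic J ⊓ P.parabolic K = P.parabolic (J ∩ K) := by
  apply le_antisymm
  · have hM : P.B ≤ P.parabolic J ⊓ P.parabolic K := le_inf (B_le_parabolic J) (B_le_parabolic K)
    rw [eq_parabolic_of_le _ hM]
    apply parabolic_mono
    rintro s ⟨hs, hsM⟩
    exact ⟨mem_of_mem_parabolic hJ hs hsM.1, mem_of_mem_parabolic hK hs hsM.2⟩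
  · exact le_inf (parabolic_mono Set.inter_subset_left) (parabolic_mono Set.inter_subset_right)

/-- if a subgroup `M ≥ B` contains `n B n⁻¹` then it contains `n` -/
theorem mem_of_conj_B_le (k : ℕ) : ∀ (n : G) (M : Subgroup G), n ∈ P.N → P.B ≤ M →
    (∀ b ∈ P.B, n * b * n⁻¹ ∈ M) → len P P.S n = k → n ∈ M := by
  have hSS : P.S ⊆ P.S := subset_refl _
  induction k with
  | zero =>
    intro n M hn hM _ hk
    exact hM (H_le_B P ((len_eq_zero_iff hSS (mem_NJS_iff.mpr hn)).mp hk))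
  | succ k ih =>
    intro n M hn hM hconj hk
    obtain ⟨r, m, hr, hmNJ, rfl, hlm⟩ := peel_left hSS (mem_NJS_iff.mpr hn) hk
    have hmN : m ∈ P.N := mem_NJS_iff.mp hmNJ
    have hrinv := hr.inv hSS
    have hle : len P P.S (r⁻¹ * (r * m)) ≤ len P P.S (r * m) := by
      rw [inv_mul_cancel_left]; omega
    obtain ⟨x, hx, hrx⟩ := L2 hn hrinv hle
    obtain ⟨b, hb, b', hb', rfl⟩ := (mem_C_iff P).mp hx
    obtain ⟨b1, hb1, b2, hb2, he⟩ := (mem_C_iff P).mp hrx
    have hrM : r⁻¹ ∈ M := by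
      have e : r⁻¹ = (r⁻¹ * (b * (r * m) * b')) * b'⁻¹ * (r * m)⁻¹ * b⁻¹ := by group
      rw [e, he]
      have e2 : b1 * (r * m) * b2 * b'⁻¹ * (r * m)⁻¹ * b⁻¹ =
          b1 * ((r * m) * (b2 * b'⁻¹) * (r * m)⁻¹) * b⁻¹ := by group
      rw [e2]
      exact M.mul_mem (M.mul_mem (hM hb1) (hconj _ (P.B.mul_mem hb2 (P.B.inv_mem hb'))))
        (M.inv_mem (hM hb))
    have hrM' : r ∈ M := by simpa using M.inv_mem hrM
    have hm : m ∈ M := by
      apply ih m M hmN hM _ hlm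
      intro c hc
      have e : m * c * m⁻¹ = r⁻¹ * ((r * m) * c * (r * m)⁻¹) * r := by group
      rw [e]
      exact M.mul_mem (M.mul_mem hrM (hconj c hc)) hrM'
    exact M.mul_mem hrM' hm

theorem sup_closure_eq_sup_conj {n : G} (hn : n ∈ P.N) :
    P.B ⊔ Subgroup.closure {n} = P.B ⊔ P.B.map (MulAut.conj n).toMonoidHom := by
  apply le_antisymm
  · apply sup_le le_sup_left
    rw [Subgroup.closure_le, Set.singleton_subset_iff]
    apply mem_of_conj_B_le _ n _ hn le_sup_left _ rfl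
    intro b hb
    apply Subgroup.mem_sup_right
    exact ⟨b, hb, by simp⟩
  · apply sup_le le_sup_left
    rintro _ ⟨b, hb, rfl⟩
    have hnm : n ∈ P.B ⊔ Subgroup.closure {n} :=
      Subgroup.mem_sup_right (Subgroup.subset_closure rfl)
    have hbm : b ∈ P.B ⊔ Subgroup.closure {n} := Subgroup.mem_sup_left hb
    simp only [MulEquiv.coe_toMonoidHom, MulAut.conj_apply]
    exact Subgroup.mul_mem _ (Subgroup.mul_mem _ hnm hbm) (Subgroup.inv_mem _ hnm)

/-- if `g B g⁻¹ ≤ M` for a subgroup `M ≥ B`, then `g ∈ M` -/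
theorem mem_of_conj_B_le' {M : Subgroup G} (hM : P.B ≤ M) {g : G}
    (hconj : ∀ b ∈ P.B, g * b * g⁻¹ ∈ M) : g ∈ M := by
  obtain ⟨n, hn, hgn⟩ := exists_mem_C (P := P) g
  obtain ⟨b, hb, b', hb', rfl⟩ := (mem_C_iff P).mp hgn
  have hnM : n ∈ M := by
    apply mem_of_conj_B_le _ n M hn hM _ rfl
    intro c hc
    have e : n * c * n⁻¹ = b⁻¹ * ((b * n * b') * (b'⁻¹ * c * b') * (b * n * b')⁻¹) * b := by group
    rw [e]
    exact M.mul_mem (M.mul_mem (M.inv_mem (hM hb))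
      (hconj _ (P.B.mul_mem (P.B.mul_mem (P.B.inv_mem hb') hc) hb'))) (hM hb)
  exact M.mul_mem (M.mul_mem (hM hb) hnM) (hM hb')

theorem normalizer_parabolic (J : Set G) :
    Subgroup.normalizer (P.parabolic J : Set G) = P.parabolic J := by
  apply le_antisymm
  · intro g hg
    apply mem_of_conj_B_le' (B_le_parabolic J)
    intro b hb
    exact (Subgroup.mem_normalizer_iff.mp hg b).mp (B_le_parabolic J hb)
  · exact Subgroup.le_normalizer

theorem parabolic_eq_of_conj {J K : Set G} (g : G)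
    (h : (P.parabolic J).map (MulAut.conj g).toMonoidHom = P.parabolic K) :
    P.parabolic J = P.parabolic K := by
  have hg : g ∈ P.parabolic K := by
    apply mem_of_conj_B_le' (B_le_parabolic K)
    intro b hb
    rw [← h]
    exact ⟨b, B_le_parabolic J hb, by simp⟩
  ext x
  constructor
  · intro hx
    have h1 : g * x * g⁻¹ ∈ P.parabolic K := by
      rw [← h]; exact ⟨x, hx, by simp⟩
    have e : x = g⁻¹ * (g * x * g⁻¹) * g := by group
    rw [e]
    exact Subgroup.mul_mem _ (Subgroup.mul_mem _ (Subgroup.inv_mem _ hg) h1) hg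
  · intro hx
    have hg' : g ∈ P.parabolic J := by
      have : g⁻¹ ∈ P.parabolic J := by
        apply mem_of_conj_B_le' (B_le_parabolic J)
        intro b hb
        have hbK : b ∈ P.parabolic K := B_le_parabolic K hb
        rw [← h] at hbK
        obtain ⟨y, hy, hye⟩ := hbK
        simp only [MulEquiv.coe_toMonoidHom, MulAut.conj_apply] at hye
        have : g⁻¹ * b * g⁻¹⁻¹ = y := by rw [← hye]; group
        rw [this]; exact hy
      simpa using Subgroup.inv_mem _ this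
    rw [← h] at hx
    obtain ⟨y, hy, hye⟩ := hx
    simp only [MulEquiv.coe_toMonoidHom, MulAut.conj_apply] at hye
    rw [← hye]
    exact Subgroup.mul_mem _ (Subgroup.mul_mem _ hg' hy) (Subgroup.inv_mem _ hg')

/-- rank one: `N_{s} = H ∪ s H` -/
theorem mem_NJ_singleton {s : G} (hs : s ∈ P.S) {n : G} (hn : n ∈ NJ P {s}) :
    n ∈ H P ∨ s⁻¹ * n ∈ H P := by
  have hJ : ({s} : Set G) ⊆ P.S := Set.singleton_subset_iff.mpr hs
  have hsN : s ∈ P.N := P.subset hs
  obtain ⟨k, hk⟩ := (mem_NJ_iff hJ).mp hn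
  induction k generalizing n with
  | zero => exact Or.inl hk
  | succ k ih =>
    obtain ⟨r, m, ⟨s', hs', h1⟩, hm, rfl⟩ := hk
    rw [Set.mem_singleton_iff] at hs'
    subst hs'
    rcases ih (reach_subset_NJ hm) hm with h2 | h2
    · right
      have e : s'⁻¹ * (r * m) = (s'⁻¹ * r) * m := by group
      rw [e]; exact (H P).mul_mem h1 h2
    · left
      have e : r * m = (s' * s') * (s'⁻¹ * (s'⁻¹ * r) * s') * (s'⁻¹ * m) := by group
      rw [e]
      exact (H P).mul_mem ((H P).mul_mem (sq_mem_H hs) (conj_mem_H' P hsN h1)) h2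

theorem parabolic_singleton_coe {s : G} (hs : s ∈ P.S) :
    (P.parabolic {s} : Set G) = (P.B : Set G) ∪ C P s := by
  have hJ : ({s} : Set G) ⊆ P.S := Set.singleton_subset_iff.mpr hs
  ext x
  rw [SetLike.mem_coe, mem_parabolic_iff hJ]
  constructor
  · rintro ⟨n, hn, hx⟩
    rcases mem_NJ_singleton hs hn with h | h
    · left
      rw [C_of_mem_B P (H_le_B P h)] at hx
      exact hx
    · right
      have e : n = s * (s⁻¹ * n) := by group
      rw [e, C_mul_right P (H_le_B P h)] at hx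
      exact hx
  · rintro (hx | hx)
    · refine ⟨1, (NJ P {s}).one_mem, ?_⟩
      rw [mem_C_one_iff]; exact hx
    · exact ⟨s, (simple_of_mem (P := P) (Set.mem_singleton s)).mem_NJ, hx⟩

theorem union_isSubgroup_iff {n : G} (hn : n ∈ P.N) (hnB : n ∉ P.B) :
    (∃ M : Subgroup G, (M : Set G) = (P.B : Set G) ∪ C P n) ↔ ∃ s ∈ P.S, s⁻¹ * n ∈ P.B := by
  constructor
  · rintro ⟨M, hM⟩
    have hBM : P.B ≤ M := by
      intro b hb
      have : b ∈ (M : Set G) := by rw [hM]; exact Or.inl hb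
      exact this
    have hnM : n ∈ M := by
      have : n ∈ (M : Set G) := by rw [hM]; exact Or.inr (mem_C_self P n)
      exact this
    have hJ : P.S ∩ (M : Set G) ⊆ P.S := Set.inter_subset_left
    have hnNJ := mem_NJ_of_mem M hBM _ n hn hnM rfl
    have hlen : len P (P.S ∩ (M : Set G)) n ≠ 0 := by
      intro h0
      exact hnB (H_le_B P ((len_eq_zero_iff hJ hnNJ).mp h0))
    obtain ⟨k, hk⟩ := Nat.exists_eq_succ_of_ne_zero hlen
    obtain ⟨r, m, ⟨s, ⟨hsS, hsM⟩, h1⟩, -, -, -⟩ := peel_left hJ hnNJ hk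
    refine ⟨s, hsS, ?_⟩
    have hsM' : s ∈ (M : Set G) := hsM
    rw [hM] at hsM'
    rcases hsM' with h | h
    · exact absurd h (not_mem_B_of_mem_S hsS)
    · exact (C_eq_iff (P.subset hsS) hn).mp (C_eq_of_mem P h)
  · rintro ⟨s, hs, h⟩
    refine ⟨P.parabolic {s}, ?_⟩
    rw [parabolic_singleton_coe hs, (C_eq_iff (P.subset hs) hn).mpr h]

end Cfsg.Agent.Helper2.BN
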