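import Cfsg.Agent.Helper2.BN.Length

set_option autoImplicit false

namespace Cfsg.Agent.Helper2.BN

open Cfsg DoubleCoset

variable {G : Type*} [Group G] {P : BNPair G}

theorem mem_N_iff_reach {n : G} : n ∈ P.N ↔ ∃ k, n ∈ Reach P P.S k := by
  rw [← NJ_S_eq, mem_NJ_iff (subset_refl _)]

/-- the union of the double cosets `B n B`, `n ∈ N`, is stable under left multiplication by `N` -/
theorem N_mul_mem_BNB {n' g : G} (hn' : n' ∈ P.N) (hg : ∃ n ∈ P.N, g ∈ C P n) :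
    ∃ n ∈ P.N, n' * g ∈ C P n := by
  obtain ⟨k, hk⟩ := mem_N_iff_reach.mp hn'
  induction k generalizing n' g with
  | zero =>
    obtain ⟨n, hn, hgn⟩ := hg
    exact ⟨n, hn, mul_mem_C P (H_le_B P hk) hgn⟩
  | succ k ih =>
    obtain ⟨r, m, hr, hm, rfl⟩ := hk
    have hmN : m ∈ P.N := reach_mem_N (subset_refl _) hm
    obtain ⟨n, hn, hgn⟩ := ih hmN hg hm
    rw [mul_assoc]
    rcases hr.mul_mem_union (subset_refl _) hn hgn with h | h
    · exact ⟨r * n, P.N.mul_mem (hr.mem_N (subset_refl _)) hn, h⟩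
    · exact ⟨n, hn, h⟩

/-- Bruhat decomposition, existence -/
theorem exists_mem_C (g : G) : ∃ n ∈ P.N, g ∈ C P n := by
  let X : Set G := {g | ∃ n ∈ P.N, g ∈ C P n}
  let K : Subgroup G :=
    { carrier := {g | (∀ x ∈ X, g * x ∈ X) ∧ (∀ x ∈ X, g⁻¹ * x ∈ X)}
      one_mem' := by simp
      mul_mem' := by
        rintro a b ⟨ha1, ha2⟩ ⟨hb1, hb2⟩
        refine ⟨fun x hx => ?_, fun x hx => ?_⟩
        · rw [mul_assoc]; exact ha1 _ (hb1 _ hx)
        · rw [mul_inv_rev, mul_assoc]; exact hb2 _ (ha2 _ hx)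
      inv_mem' := by
        rintro a ⟨ha1, ha2⟩
        refine ⟨ha2, ?_⟩
        rw [inv_inv]; exact ha1 }
  have hB : P.B ≤ K := by
    intro b hb
    refine ⟨?_, ?_⟩
    · rintro x ⟨n, hn, hx⟩
      exact ⟨n, hn, mul_mem_C P hb hx⟩
    · rintro x ⟨n, hn, hx⟩
      exact ⟨n, hn, mul_mem_C P (P.B.inv_mem hb) hx⟩
  have hN : P.N ≤ K := by
    intro n hn
    exact ⟨fun x hx => N_mul_mem_BNB hn hx, fun x hx => N_mul_mem_BNB (P.N.inv_mem hn) hx⟩
  have hK : K = ⊤ := by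
    rw [eq_top_iff, ← P.sup_eq_top]
    exact sup_le hB hN
  have hg : g ∈ K := by rw [hK]; exact Subgroup.mem_top g
  have h1 : (1 : G) ∈ X := ⟨1, P.N.one_mem, mem_C_self P 1⟩
  have := hg.1 1 h1
  rwa [mul_one] at this

/-- Bruhat uniqueness, auxiliary inductive form -/
theorem bruhat_aux (k : ℕ) : ∀ n n' : G, n ∈ P.N → n' ∈ P.N → len P P.S n = k →
    len P P.S n ≤ len P P.S n' → C P n = C P n' → n⁻¹ * n' ∈ H P := by
  have hSS : P.S ⊆ P.S := subset_refl _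
  induction k with
  | zero =>
    intro n n' hn hn' hk _ hC
    have hnH : n ∈ H P := (len_eq_zero_iff hSS (by rw [NJ_S_eq]; exact hn)).mp hk
    have h1 : n' ∈ C P n := hC ▸ mem_C_self P n'
    rw [C_of_mem_B P (H_le_B P hnH)] at h1
    have hn'H : n' ∈ H P := ⟨h1, hn'⟩
    exact (H P).mul_mem ((H P).inv_mem hnH) hn'H
  | succ k ih =>
    intro n n' hn hn' hk hle hC
    have hnNJ : n ∈ NJ P P.S := by rw [NJ_S_eq]; exact hn
    have hn'NJ : n' ∈ NJ P P.S := by rw [NJ_S_eq]; exact hn'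
    obtain ⟨r, m, hr, hmNJ, rfl, hlm⟩ := peel_left hSS hnNJ hk
    have hmN : m ∈ P.N := by rw [← NJ_S_eq]; exact hmNJ
    have h1 : n' ∈ C P (r * m) := hC ▸ mem_C_self P n'
    obtain ⟨b, hb, b', hb', he⟩ := (mem_C_iff P).mp h1
    -- x = b⁻¹ n' b'⁻¹ = r m
    have hx : b⁻¹ * n' * b'⁻¹ ∈ C P n' :=
      (mem_C_iff P).mpr ⟨b⁻¹, P.B.inv_mem hb, b'⁻¹, P.B.inv_mem hb', rfl⟩
    have hrm : r⁻¹ * (b⁻¹ * n' * b'⁻¹) = m := by rw [he]; group
    have h2 := (hr.inv hSS).mul_mem_union hSS hn' hx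
    rw [hrm] at h2
    have hrinvNJ : r⁻¹ * n' ∈ NJ P P.S := (NJ P P.S).mul_mem (hr.inv hSS).mem_NJ hn'NJ
    have hrinvN : r⁻¹ * n' ∈ P.N := by rw [← NJ_S_eq]; exact hrinvNJ
    rcases h2 with h2 | h2
    · have hCm : C P m = C P (r⁻¹ * n') := C_eq_of_mem P h2
      have h3 := len_le_simple_mul hSS (hr.inv hSS) hn'NJ
      have h4 := ih m (r⁻¹ * n') hmN hrinvN hlm (by omega) hCm
      have e : (r * m)⁻¹ * n' = m⁻¹ * (r⁻¹ * n') := by group
      rw [e]; exact h4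
    · exfalso
      have hCm : C P m = C P n' := C_eq_of_mem P h2
      have h4 := ih m n' hmN hn' hlm (by omega) hCm
      have h5 : len P P.S n' = len P P.S m := by
        have e : n' = m * (m⁻¹ * n') := by group
        rw [e, len_mul_H h4]
      omega

/-- Bruhat uniqueness -/
theorem bruhat_unique {n n' : G} (hn : n ∈ P.N) (hn' : n' ∈ P.N) (hC : C P n = C P n') :
    n⁻¹ * n' ∈ H P := by
  rcases le_total (len P P.S n) (len P P.S n') with h | h
  · exact bruhat_aux _ n n' hn hn' rfl h hC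
  · have := bruhat_aux _ n' n hn' hn rfl h hC.symm
    have e : n⁻¹ * n' = (n'⁻¹ * n)⁻¹ := by group
    rw [e]; exact (H P).inv_mem this

theorem C_eq_iff {n n' : G} (hn : n ∈ P.N) (hn' : n' ∈ P.N) :
    C P n = C P n' ↔ n⁻¹ * n' ∈ P.B := by
  constructor
  · intro h
    exact H_le_B P (bruhat_unique hn hn' h)
  · intro h
    have e : n' = n * (n⁻¹ * n') := by group
    rw [e, C_mul_right P h]

theorem len_eq_of_C_eq {n n' : G} (hn : n ∈ P.N) (hn' : n' ∈ P.N) (hC : C P n = C P n') :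
    len P P.S n = len P P.S n' := by
  have h := bruhat_unique hn hn' hC
  have e : n' = n * (n⁻¹ * n') := by group
  rw [e, len_mul_H h]

end Cfsg.Agent.Helper2.BN
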