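import Cfsg.Agent.Helper2.BN.Bruhat

set_option autoImplicit false

namespace Cfsg.Agent.Helper2.BN

open Cfsg DoubleCoset

variable {G : Type*} [Group G] {P : BNPair G}

theorem mem_NJS_iff {n : G} : n ∈ NJ P P.S ↔ n ∈ P.N := by rw [NJ_S_eq]

/-- `H` is normalized by `N`, elementwise form -/
theorem mem_H_of_conj_mem_H {n r : G} (hn : n ∈ P.N) (h : n⁻¹ * r * n ∈ H P) : r ∈ H P := by
  have := conj_mem_H P hn h
  have e : n * (n⁻¹ * r * n) * n⁻¹ = r := by group
  rwa [e] at this

/-- L1: if `ℓ n ≤ ℓ (r n)` then `r (B n B) ⊆ B r n B`. -/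
theorem L1_left (k : ℕ) : ∀ (n r : G), n ∈ P.N → Simple P P.S r → len P P.S n = k →
    len P P.S n ≤ len P P.S (r * n) → ∀ x ∈ C P n, r * x ∈ C P (r * n) := by
  have hSS : P.S ⊆ P.S := subset_refl _
  induction k with
  | zero =>
    intro n r hn hr hk _ x hx
    have hnH : n ∈ H P := (len_eq_zero_iff hSS (mem_NJS_iff.mpr hn)).mp hk
    rw [C_of_mem_B P (H_le_B P hnH)] at hx
    rw [C_mul_right P (H_le_B P hnH)]
    exact mem_C_mul P hx (mem_C_self P r)
  | succ k ih =>
    intro n r hn hr hk hle x hx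
    have hnNJ : n ∈ NJ P P.S := mem_NJS_iff.mpr hn
    obtain ⟨t, m, ht, hmNJ, rfl, hlm⟩ := peel_right hSS hnNJ hk
    have hmN : m ∈ P.N := mem_NJS_iff.mp hmNJ
    have htN : t ∈ P.N := ht.mem_N hSS
    have hrN : r ∈ P.N := hr.mem_N hSS
    have hrmNJ : r * m ∈ NJ P P.S := (NJ P P.S).mul_mem hr.mem_NJ hmNJ
    have hrmN : r * m ∈ P.N := mem_NJS_iff.mp hrmNJ
    -- ℓ m ≤ ℓ (r m)
    have h1 : len P P.S m ≤ len P P.S (r * m) := by
      have := len_mul_simple_le hSS ht hrmNJ
      rw [mul_assoc] at this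
      omega
    have IH := ih m r hmN hr hlm h1
    rcases hr.mul_mem_union hSS hn hx with h | h
    · exact h
    · exfalso
      obtain ⟨b, hb, b', hb', rfl⟩ := (mem_C_iff P).mp hx
      obtain ⟨b1, hb1, b2, hb2, he⟩ := (mem_C_iff P).mp h
      -- r b m = b1 m (t c t⁻¹) with c = b2 b'⁻¹
      have hc : b2 * b'⁻¹ ∈ P.B := P.B.mul_mem hb2 (P.B.inv_mem hb')
      have e1 : r * (b * m) = b1 * m * (t * (b2 * b'⁻¹ * t⁻¹)) := by
        have : r * (b * m) = (r * (b * (m * t) * b')) * b'⁻¹ * t⁻¹ := by group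
        rw [this, he]; group
      -- t (c t⁻¹) ∈ C 1 ∪ C t⁻¹
      have h2 := ht.mul_mem_union hSS (P.N.inv_mem htN)
        (mul_mem_C P hc (mem_C_self P t⁻¹))
      rw [mul_inv_cancel] at h2
      have hbm : b * m ∈ C P m := mul_mem_C P hb (mem_C_self P m)
      have h3 : r * (b * m) ∈ C P (r * m) := IH _ hbm
      have hb1m : b1 * m ∈ C P m := mul_mem_C P hb1 (mem_C_self P m)
      have h4 : r * (b * m) ∈ C P m ∪ C P (m * t) := by
        rw [e1]
        rcases h2 with h2 | h2
        · left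
          rw [mem_C_one_iff] at h2
          exact mem_C_mul P h2 hb1m
        · obtain ⟨b3, hb3, b4, hb4, he2⟩ := (mem_C_iff P).mp h2
          rw [he2]
          have hy : b1 * m * b3 ∈ C P m := mem_C_mul P hb3 hb1m
          have h5 := (ht.inv hSS).mem_union_mul hSS hmN hy
          have e3 : C P (m * t⁻¹) = C P (m * t) := by
            have : m * t⁻¹ = m * t * (t * t)⁻¹ := by group
            rw [this]
            exact C_mul_right P (P.B.inv_mem (H_le_B P (ht.sq_mem_H hSS)))
          rw [e3] at h5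
          have e4 : b1 * m * (b3 * t⁻¹ * b4) = b1 * m * b3 * t⁻¹ * b4 := by group
          rw [e4]
          rcases h5 with h5 | h5
          · right; exact mem_C_mul P hb4 h5
          · left; exact mem_C_mul P hb4 h5
      rcases h4 with h4 | h4
      · -- C (r m) = C m
        have hC : C P (r * m) = C P m := ((C_eq_of_mem P h3).symm.trans (C_eq_of_mem P h4))
        have h6 := bruhat_unique hrmN hmN hC
        have e5 : (r * m)⁻¹ * m = m⁻¹ * r⁻¹ * m := by group
        rw [e5] at h6
        have h7 := mem_H_of_conj_mem_H hmN h6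
        exact (hr.inv hSS).not_mem_H hSS h7
      · -- C (r m) = C (m t)
        have hC : C P (r * m) = C P (m * t) := ((C_eq_of_mem P h3).symm.trans (C_eq_of_mem P h4))
        have h6 := bruhat_unique hrmN hn hC
        -- r (m t) ∈ m H
        have e6 : r * (m * t) = m * (t * ((r * m)⁻¹ * (m * t))⁻¹ * t⁻¹ * (t * t)) := by group
        have h7 : len P P.S (r * (m * t)) = len P P.S m := by
          rw [e6]
          apply len_mul_H
          exact (H P).mul_mem (conj_mem_H P htN ((H P).inv_mem h6)) (ht.sq_mem_H hSS)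
        omega

theorem L1 {n r : G} (hn : n ∈ P.N) (hr : Simple P P.S r)
    (hle : len P P.S n ≤ len P P.S (r * n)) {x : G} (hx : x ∈ C P n) : r * x ∈ C P (r * n) :=
  L1_left _ n r hn hr rfl hle x hx

/-- L2: if `ℓ (r n) ≤ ℓ n` then `r (B n B)` meets `B n B`. -/
theorem L2 {n r : G} (hn : n ∈ P.N) (hr : Simple P P.S r)
    (hle : len P P.S (r * n) ≤ len P P.S n) : ∃ x ∈ C P n, r * x ∈ C P n := by
  have hSS : P.S ⊆ P.S := subset_refl _
  have hrN : r ∈ P.N := hr.mem_N hSS
  have hmN : r * n ∈ P.N := P.N.mul_mem hrN hn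
  have hrr := hr.sq_mem_H hSS
  have e1 : r * (r * n) = (r * r) * n := by group
  have hlen : len P P.S (r * n) ≤ len P P.S (r * (r * n)) := by
    rw [e1, len_H_mul hSS hrr]; exact hle
  have hC : C P (r * (r * n)) = C P n := by
    rw [e1]; exact C_mul_left P (H_le_B P hrr)
  have key : ∀ y ∈ C P (r * n), r * y ∈ C P n := by
    intro y hy
    have := L1 hmN hr hlen hy
    rwa [hC] at this
  obtain ⟨b0, hb0, hmem⟩ := hr.exists_mul_mul_mem hSS
  obtain ⟨b1, hb1, b2, hb2, he⟩ := (mem_C_iff P).mp hmem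
  refine ⟨b0 * (r * (r * n)), mul_mem_C P hb0 (key _ (mem_C_self P _)), ?_⟩
  have e2 : r * (b0 * (r * (r * n))) = b1 * (r * (b2 * (r * n))) := by
    have : r * (b0 * (r * (r * n))) = (r * b0 * r) * (r * n) := by group
    rw [this, he]; group
  rw [e2]
  exact mul_mem_C P hb1 (key _ (mul_mem_C P hb2 (mem_C_self P _)))

/-- the key lemma behind the exchange condition -/
theorem exchange_key {u r t : G} (hu : u ∈ P.N) (hr : Simple P P.S r) (ht : Simple P P.S t)
    (h1 : len P P.S u ≤ len P P.S (r * u))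
    (h3 : len P P.S (r * (u * t)) ≤ len P P.S (u * t)) : (r * u)⁻¹ * (u * t) ∈ H P := by
  have hSS : P.S ⊆ P.S := subset_refl _
  have hrN : r ∈ P.N := hr.mem_N hSS
  have htN : t ∈ P.N := ht.mem_N hSS
  have hutN : u * t ∈ P.N := P.N.mul_mem hu htN
  have hruN : r * u ∈ P.N := P.N.mul_mem hrN hu
  obtain ⟨x, hx, hrx⟩ := L2 hutN hr h3
  obtain ⟨b, hb, b', hb', rfl⟩ := (mem_C_iff P).mp hx
  have h4 : r * (b * u) ∈ C P (r * u) := L1 hu hr h1 (mul_mem_C P hb (mem_C_self P u))
  have h5 := ht.mem_union_mul hSS hruN h4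
  have e1 : r * (b * (u * t) * b') = r * (b * u) * t * b' := by group
  rw [e1] at hrx
  rcases h5 with h5 | h5
  · exfalso
    have h6 : r * (b * u) * t * b' ∈ C P (r * u * t) := mem_C_mul P hb' h5
    have hC : C P (u * t) = C P (r * u * t) :=
      (C_eq_of_mem P hrx).symm.trans (C_eq_of_mem P h6)
    have h7 := bruhat_unique hutN (P.N.mul_mem hruN htN) hC
    have e2 : (u * t)⁻¹ * (r * u * t) = (u * t)⁻¹ * r * (u * t) := by group
    rw [e2] at h7
    exact hr.not_mem_H hSS (mem_H_of_conj_mem_H hutN h7)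
  · have h6 : r * (b * u) * t * b' ∈ C P (r * u) := mem_C_mul P hb' h5
    have hC : C P (r * u) = C P (u * t) :=
      (C_eq_of_mem P h6).symm.trans (C_eq_of_mem P hrx)
    exact bruhat_unique hruN hutN hC

theorem reach_succ_right {J : Set G} (hJ : J ⊆ P.S) {k : ℕ} {n : G} :
    n ∈ Reach P J (k + 1) ↔ ∃ m t, m ∈ Reach P J k ∧ Simple P J t ∧ n = m * t := by
  constructor
  · intro hn
    induction k generalizing n with
    | zero =>
      obtain ⟨r, m, hr, hm, rfl⟩ := hn
      exact ⟨1, r * m, (H P).one_mem, hr.mul_H hm, by group⟩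
    | succ k ih =>
      obtain ⟨r, m, hr, hm, rfl⟩ := hn
      obtain ⟨m', t, hm', ht, rfl⟩ := ih hm
      exact ⟨r * m', t, ⟨r, m', hr, hm', rfl⟩, ht, by group⟩
  · rintro ⟨m, t, hm, ht, rfl⟩
    exact reach_append hJ hm ht

theorem reach_mono_set {J K : Set G} (hJK : J ⊆ K) {k : ℕ} {n : G} (hn : n ∈ Reach P J k) :
    n ∈ Reach P K k := by
  induction k generalizing n with
  | zero => exact hn
  | succ k ih =>
    obtain ⟨r, m, hr, hm, rfl⟩ := hn
    exact ⟨r, m, hr.mono hJK, ih hm, rfl⟩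

theorem len_le_len_of_subset {J K : Set G} (hJ : J ⊆ K) (hK : K ⊆ P.S) {n : G}
    (hn : n ∈ NJ P J) : len P K n ≤ len P J n :=
  len_le (reach_mono_set hJ (mem_reach_len (hJ.trans hK) hn))

/-- exchange condition, in `Reach` form -/
theorem exchange_reach {J : Set G} (hJ : J ⊆ P.S) (p : ℕ) : ∀ (m r : G), m ∈ Reach P J p →
    len P P.S m = p → Simple P P.S r → len P P.S (r * m) ≤ len P P.S m →
    r * m ∈ Reach P J (p - 1) := by
  have hSS : P.S ⊆ P.S := subset_refl _
  induction p with
  | zero =>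
    intro m r hm hl hr hle
    exfalso
    have hmH : m ∈ H P := hm
    rw [len_mul_H hmH, len_simple hSS hr, hl] at hle
    omega
  | succ p ih =>
    intro m r hm hl hr hle
    obtain ⟨m', t, hm', ht, rfl⟩ := (reach_succ_right hJ).mp hm
    have htS : Simple P P.S t := ht.mono hJ
    have hm'NJ : m' ∈ NJ P P.S := reach_subset_NJ (reach_mono_set hJ hm')
    have hm'N : m' ∈ P.N := mem_NJS_iff.mp hm'NJ
    have hlm' : len P P.S m' = p := by
      have h1 : len P P.S m' ≤ p := len_le (reach_mono_set hJ hm')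
      have h2 := len_mul_simple_le hSS htS hm'NJ
      omega
    rcases Nat.lt_or_ge (len P P.S m') (len P P.S (r * m')) with hlt | hge
    · -- exchange happens at the last letter
      have hkey := exchange_key hm'N hr htS hlt.le hle
      have e : r * (m' * t) = (r * r) * m' * ((r * m')⁻¹ * (m' * t)) := by group
      rw [e, Nat.add_sub_cancel]
      exact reach_mul_H (reach_H_mul hJ hm' (hr.sq_mem_H hSS)) hkey
    · have h1 := ih m' r hm' hlm' hr hge
      have hp : 1 ≤ p := by
        by_contra hp0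
        have hp0' : p = 0 := by omega
        subst hp0'
        have hm'H : m' ∈ H P := hm'
        rw [len_mul_H hm'H, len_simple hSS hr, hlm'] at hge
        omega
      have e : r * (m' * t) = (r * m') * t := by group
      rw [e, Nat.add_sub_cancel]
      have := reach_append hJ h1 ht
      rwa [Nat.sub_add_cancel hp] at this

/-- on `N_J` the `J`-length agrees with the `S`-length -/
theorem lenJ_le_len {J : Set G} (hJ : J ⊆ P.S) (q : ℕ) : ∀ n : G, n ∈ Reach P J q →
    len P J n ≤ len P P.S n := by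
  have hSS : P.S ⊆ P.S := subset_refl _
  induction q with
  | zero =>
    intro n hn
    have : len P J n ≤ 0 := len_le hn
    omega
  | succ q ih =>
    intro n hn
    obtain ⟨r, m, hr, hm, rfl⟩ := hn
    have hrS : Simple P P.S r := hr.mono hJ
    have hmNJ : m ∈ NJ P J := reach_subset_NJ hm
    have hmNS : m ∈ NJ P P.S := NJ_mono hJ hmNJ
    have IH := ih m hm
    have h1 : len P P.S m ≤ len P J m := len_le_len_of_subset hJ hSS hmNJ
    have heq : len P J m = len P P.S m := le_antisymm IH h1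
    rcases Nat.lt_or_ge (len P P.S m) (len P P.S (r * m)) with hlt | hge
    · have := len_simple_mul_le hJ hr hmNJ
      omega
    · have hm' : m ∈ Reach P J (len P P.S m) := by
        rw [← heq]; exact mem_reach_len hJ hmNJ
      have h2 := exchange_reach hJ _ m r hm' rfl hrS hge
      have h3 : len P J (r * m) ≤ len P P.S m - 1 := len_le h2
      have h4 := len_le_simple_mul hSS hrS hmNS
      omega

theorem lenJ_eq_len {J : Set G} (hJ : J ⊆ P.S) {n : G} (hn : n ∈ NJ P J) :
    len P J n = len P P.S n := by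
  apply le_antisymm
  · exact lenJ_le_len hJ _ n (mem_reach_len hJ hn)
  · exact len_le_len_of_subset hJ (subset_refl _) hn

/-- a distinguished generator lying in `N_J` lies in `J` -/
theorem mem_J_of_mem_NJ {J : Set G} (hJ : J ⊆ P.S) {s : G} (hs : s ∈ P.S) (hsJ : s ∈ NJ P J) :
    s ∈ J := by
  have hSS : P.S ⊆ P.S := subset_refl _
  have h1 : len P J s = 1 := by
    rw [lenJ_eq_len hJ hsJ]; exact len_simple hSS (simple_of_mem hs)
  have h2 := mem_reach_len hJ hsJ
  rw [h1] at h2
  obtain ⟨r, m, ⟨s', hs', h3⟩, hm, he⟩ := h2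
  have hmH : m ∈ H P := hm
  have h4 : s'⁻¹ * s ∈ P.B := by
    have : s'⁻¹ * s = (s'⁻¹ * r) * m := by rw [he]; group
    rw [this]
    exact P.B.mul_mem (H_le_B P h3) (H_le_B P hmH)
  have := P.inj s' (hJ hs') s hs h4
  rw [← this]; exact hs'

end Cfsg.Agent.Helper2.BN
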