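import Cfsg.Agent.Helper2.BN.RankOne

/-! Tits' simplicity criterion for groups with a BN-pair. -/

namespace Cfsg.Agent.Helper2.BN

open Cfsg
open scoped Pointwise

variable {G : Type*} [Group G] {P : BNPair G}

/-- left multiplication by a simple reflection outside `J` increases the length of elements
of `N_J`. -/
theorem len_lt_of_not_mem {J : Set G} (hJ : J ⊆ P.S) {w s' : G} (hw : w ∈ NJ P J)
    (hs' : s' ∈ P.S) (hs'J : s' ∉ J) : len P P.S w < len P P.S (s' * w) := by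
  by_contra hlt
  push Not at hlt
  have h1 := mem_reach_len hJ hw
  rw [lenJ_eq_len hJ hw] at h1
  have h2 := exchange_reach hJ _ w s' h1 rfl (simple_of_mem hs') hlt
  have h3 : s' * w ∈ NJ P J := reach_subset_NJ h2
  have h4 : s' ∈ NJ P J := by
    have e : s' = (s' * w) * w⁻¹ := by group
    rw [e]; exact (NJ P J).mul_mem h3 ((NJ P J).inv_mem hw)
  exact hs'J (mem_J_of_mem_NJ hJ hs' h4)

theorem comm_of_normal (K : Subgroup G) [hK : K.Normal] {s s' : G} (hs : s ∈ P.S)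
    (hsM : s ∈ K ⊔ P.B) (hs' : s' ∈ P.S) (hs'M : s' ∉ K ⊔ P.B) :
    s * s' * s⁻¹ * s'⁻¹ ∈ P.B := by
  have hSS : P.S ⊆ P.S := subset_refl _
  have hBM : P.B ≤ K ⊔ P.B := le_sup_right
  have hKM : K ≤ K ⊔ P.B := le_sup_left
  have hXS : P.S ∩ ((K ⊔ P.B : Subgroup G) : Set G) ⊆ P.S := Set.inter_subset_left
  have hsX : s ∈ P.S ∩ ((K ⊔ P.B : Subgroup G) : Set G) := ⟨hs, hsM⟩
  have hs'X : s' ∉ P.S ∩ ((K ⊔ P.B : Subgroup G) : Set G) := fun h => hs'M h.2
  have hsN := P.subset hs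
  have hs'N := P.subset hs'
  have hss' : Simple P P.S s' := simple_of_mem hs'
  have hss : Simple P P.S s := simple_of_mem hs
  obtain ⟨k, hkK, hkC⟩ : ∃ k ∈ K, k ∈ C P s := by
    have h0 : s ∈ (K : Set G) * (P.B : Set G) := by
      rw [← Subgroup.normal_mul]; exact hsM
    obtain ⟨k, hk, b, hb, hkb⟩ := Set.mem_mul.mp h0
    refine ⟨k, hk, ?_⟩
    rw [mem_C_iff]
    refine ⟨1, P.B.one_mem, b⁻¹, P.B.inv_mem hb, ?_⟩
    rw [← hkb]; group
  have h1 : s' * s ∉ H P := by
    intro h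
    have h0 : s'⁻¹ * s ∈ P.B := by
      have e : s'⁻¹ * s = (s' * s')⁻¹ * (s' * s) := by group
      rw [e]; exact P.B.mul_mem (P.B.inv_mem (P.sq_mem s' hs')) (H_le_B P h)
    have h00 := P.inj s' hs' s hs h0
    exact hs'X (h00 ▸ hsX)
  have h2 : len P P.S s ≤ len P P.S (s' * s) := by
    rw [len_simple hSS hss]
    have h0 : len P P.S (s' * s) ≠ 0 := by
      intro h0
      exact h1 ((len_eq_zero_iff hSS (mem_NJS_iff.mpr (P.N.mul_mem hs'N hsN))).mp h0)
    omega
  have h3 : s' * k ∈ C P (s' * s) := L1 hsN hss' h2 hkC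
  have h4 := (hss'.inv hSS).mem_union_mul hSS (P.N.mul_mem hs'N hsN) h3
  have h5 : s' * k * s'⁻¹ ∈ K ⊔ P.B := hKM (hK.conj_mem k hkK s')
  rcases h4 with h4 | h4
  · have hwM : s' * s * s'⁻¹ ∈ K ⊔ P.B := mem_of_C_mem hBM h4 h5
    have hwN : s' * s * s'⁻¹ ∈ P.N := P.N.mul_mem (P.N.mul_mem hs'N hsN) (P.N.inv_mem hs'N)
    have hwNJ := mem_NJ_of_mem (K ⊔ P.B) hBM _ _ hwN hwM rfl
    have h6 := len_lt_of_not_mem hXS hwNJ hs' hs'X
    have e1 : s' * (s' * s * s'⁻¹) = (s' * s') * (s * s'⁻¹) := by group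
    rw [e1, len_H_mul hSS (sq_mem_H hs')] at h6
    have h7 : len P P.S (s' * (s * s'⁻¹)) ≤ len P P.S (s * s'⁻¹) := by
      have e2 : s' * (s * s'⁻¹) = s' * s * s'⁻¹ := by group
      rw [e2]; exact h6.le
    have h8 := exchange_key hsN hss' (hss'.inv hSS) h2 h7
    have h9 := conj_mem_H P hsN ((H P).inv_mem h8)
    have h10 := (H P).mul_mem h9 ((H P).inv_mem (sq_mem_H hs'))
    have e3 : s * s' * s⁻¹ * s'⁻¹ = s * ((s' * s)⁻¹ * (s * s'⁻¹))⁻¹ * s⁻¹ * (s' * s')⁻¹ := by
      group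
    rw [e3]
    exact H_le_B P h10
  · have h0 : s' * s ∈ K ⊔ P.B := mem_of_C_mem hBM h4 h5
    exfalso; apply hs'M
    have e : s' = (s' * s) * s⁻¹ := by group
    rw [e]; exact (K ⊔ P.B).mul_mem h0 ((K ⊔ P.B).inv_mem hsM)

theorem isSimpleGroup_of_irreducible [Nontrivial G] (P : BNPair G) (hirr : P.Irreducible)
    (hsolv : Group.IsSolvable P.B) (hperf : commutator G = ⊤) (hcore : P.B.normalCore = ⊥) :
    IsSimpleGroup G := by
  refine ⟨fun K hK => ?_⟩
  have hM : K ⊔ P.B = P.parabolic (P.S ∩ ((K ⊔ P.B : Subgroup G) : Set G)) :=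
    eq_parabolic_of_le (K ⊔ P.B) le_sup_right
  by_cases hX : (P.S ∩ ((K ⊔ P.B : Subgroup G) : Set G)).Nonempty
  · by_cases hX' : (P.S \ (P.S ∩ ((K ⊔ P.B : Subgroup G) : Set G))).Nonempty
    · exfalso
      obtain ⟨s, hs, s', hs', h⟩ := hirr _ Set.inter_subset_left hX hX'
      exact h (comm_of_normal K hs.1 hs.2 hs'.1 (fun h => hs'.2 ⟨hs'.1, h⟩))
    · right
      have hXS : P.S ∩ ((K ⊔ P.B : Subgroup G) : Set G) = P.S := by
        apply Set.Subset.antisymm Set.inter_subset_left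
        exact Set.sdiff_eq_empty.mp (Set.not_nonempty_iff_eq_empty.mp hX')
      have hMtop : K ⊔ P.B = ⊤ := by rw [hM, hXS, parabolic_S_eq_top]
      have hsurj : Function.Surjective ((QuotientGroup.mk' K).comp P.B.subtype) := by
        intro q
        obtain ⟨g, rfl⟩ := QuotientGroup.mk_surjective q
        have hg : g ∈ (P.B : Set G) * (K : Set G) := by
          rw [← Subgroup.mul_normal, sup_comm, hMtop]; exact Set.mem_univ g
        obtain ⟨b, hb, k, hk, rfl⟩ := Set.mem_mul.mp hg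
        exact ⟨⟨b, hb⟩, (QuotientGroup.mk_mul_of_mem b hk).symm⟩
      have : Group.IsSolvable (G ⧸ K) := Group.isSolvable_of_surjective hsurj
      have hperf' : commutator (G ⧸ K) = ⊤ := by
        have h0 := Subgroup.map_commutator (⊤ : Subgroup G) ⊤ (QuotientGroup.mk' K)
        rw [Subgroup.map_top_of_surjective _ (QuotientGroup.mk'_surjective K)] at h0
        rw [commutator_def, ← h0, ← commutator_def, hperf,
          Subgroup.map_top_of_surjective _ (QuotientGroup.mk'_surjective K)]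
      have hsub : Subsingleton (G ⧸ K) := by
        by_contra hns
        rw [not_subsingleton_iff_nontrivial] at hns
        exact (Group.IsSolvable.commutator_lt_top_of_nontrivial (G ⧸ K)).ne hperf'
      rw [eq_top_iff]
      intro g _
      rw [← QuotientGroup.eq_one_iff]
      exact Subsingleton.elim _ _
  · left
    have hXe := Set.not_nonempty_iff_eq_empty.mp hX
    have hMB : K ⊔ P.B = P.B := by
      rw [hM, hXe]; unfold BNPair.parabolic; rw [Subgroup.closure_empty, sup_bot_eq]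
    have hKB : K ≤ P.B := hMB ▸ le_sup_left
    have h0 : K ≤ P.B.normalCore := Subgroup.normal_le_normalCore.mpr hKB
    rw [hcore] at h0
    exact le_bot_iff.mp h0

end Cfsg.Agent.Helper2.BN
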