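import Mathlib
import Cfsg.Prelude.Def_LieExceptional

set_option autoImplicit false

namespace Cfsg.Agent.Helper2.BN

open Cfsg DoubleCoset

variable {G : Type*} [Group G] (P : BNPair G)

/-- `H = B ⊓ N` -/
def H : Subgroup G := P.B ⊓ P.N

theorem H_le_B : H P ≤ P.B := inf_le_left
theorem H_le_N : H P ≤ P.N := inf_le_right

theorem mem_H_iff {x : G} : x ∈ H P ↔ x ∈ P.B ∧ x ∈ P.N := Subgroup.mem_inf

theorem conj_mem_H {n t : G} (hn : n ∈ P.N) (ht : t ∈ H P) : n * t * n⁻¹ ∈ H P :=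
  ⟨P.conj_mem n hn t ht, P.N.mul_mem (P.N.mul_mem hn ht.2) (P.N.inv_mem hn)⟩

theorem conj_mem_H' {n t : G} (hn : n ∈ P.N) (ht : t ∈ H P) : n⁻¹ * t * n ∈ H P := by
  have := conj_mem_H P (P.N.inv_mem hn) ht
  rwa [inv_inv] at this

/-- the double coset `B n B` -/
def C (n : G) : Set G := doubleCoset n (P.B : Set G) P.B

theorem mem_C_iff {n x : G} : x ∈ C P n ↔ ∃ b ∈ P.B, ∃ b' ∈ P.B, x = b * n * b' :=
  mem_doubleCoset

theorem mem_C_self (n : G) : n ∈ C P n := mem_doubleCoset_self _ _ n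

theorem C_eq_of_mem {n x : G} (hx : x ∈ C P n) : C P x = C P n := doubleCoset_eq_of_mem hx

theorem mem_C_of_C_eq {n x : G} (h : C P x = C P n) : x ∈ C P n := h ▸ mem_C_self P x

theorem mul_mem_C {n x b : G} (hb : b ∈ P.B) (hx : x ∈ C P n) : b * x ∈ C P n := by
  obtain ⟨b1, hb1, b2, hb2, rfl⟩ := (mem_C_iff P).mp hx
  exact (mem_C_iff P).mpr ⟨b * b1, P.B.mul_mem hb hb1, b2, hb2, by group⟩

theorem mem_C_mul {n x b : G} (hb : b ∈ P.B) (hx : x ∈ C P n) : x * b ∈ C P n := by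
  obtain ⟨b1, hb1, b2, hb2, rfl⟩ := (mem_C_iff P).mp hx
  exact (mem_C_iff P).mpr ⟨b1, hb1, b2 * b, P.B.mul_mem hb2 hb, by group⟩

theorem C_mul_right {n b : G} (hb : b ∈ P.B) : C P (n * b) = C P n :=
  C_eq_of_mem P (mem_C_mul P hb (mem_C_self P n))

theorem C_mul_left {n b : G} (hb : b ∈ P.B) : C P (b * n) = C P n :=
  C_eq_of_mem P (mul_mem_C P hb (mem_C_self P n))

theorem C_of_mem_B {b : G} (hb : b ∈ P.B) : C P b = (P.B : Set G) := by
  ext x
  rw [mem_C_iff]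
  constructor
  · rintro ⟨b1, hb1, b2, hb2, rfl⟩
    exact P.B.mul_mem (P.B.mul_mem hb1 hb) hb2
  · intro hx
    exact ⟨x * b⁻¹, P.B.mul_mem hx (P.B.inv_mem hb), 1, P.B.one_mem, by group⟩

theorem mem_C_one_iff {x : G} : x ∈ C P 1 ↔ x ∈ P.B := by
  rw [C_of_mem_B P P.B.one_mem]; rfl

theorem inv_mem_C {n x : G} (hx : x ∈ C P n) : x⁻¹ ∈ C P n⁻¹ := by
  obtain ⟨b1, hb1, b2, hb2, rfl⟩ := (mem_C_iff P).mp hx
  exact (mem_C_iff P).mpr ⟨b2⁻¹, P.B.inv_mem hb2, b1⁻¹, P.B.inv_mem hb1, by group⟩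

theorem C_eq_iff_mem {n n' : G} : C P n = C P n' ↔ n ∈ C P n' :=
  ⟨fun h => mem_C_of_C_eq P h, fun h => C_eq_of_mem P h⟩

/-- `r` is a simple element relative to `J`: it lies in `s H` for some `s ∈ J`. -/
def Simple (J : Set G) (r : G) : Prop := ∃ s ∈ J, s⁻¹ * r ∈ H P

variable {P}

theorem Simple.mono {J K : Set G} (hJK : J ⊆ K) {r : G} (hr : Simple P J r) : Simple P K r := by
  obtain ⟨s, hs, h⟩ := hr
  exact ⟨s, hJK hs, h⟩

theorem simple_of_mem {J : Set G} {s : G} (hs : s ∈ J) : Simple P J s :=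
  ⟨s, hs, by rw [inv_mul_cancel]; exact (H P).one_mem⟩

theorem Simple.mem_N {J : Set G} (hJ : J ⊆ P.S) {r : G} (hr : Simple P J r) : r ∈ P.N := by
  obtain ⟨s, hs, h⟩ := hr
  have hsN : s ∈ P.N := P.subset (hJ hs)
  have : r = s * (s⁻¹ * r) := by group
  rw [this]
  exact P.N.mul_mem hsN h.2

theorem sq_mem_H {s : G} (hs : s ∈ P.S) : s * s ∈ H P :=
  ⟨P.sq_mem s hs, P.N.mul_mem (P.subset hs) (P.subset hs)⟩

theorem Simple.mul_H {J : Set G} {r h : G} (hr : Simple P J r) (hh : h ∈ H P) :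
    Simple P J (r * h) := by
  obtain ⟨s, hs, h1⟩ := hr
  refine ⟨s, hs, ?_⟩
  rw [← mul_assoc]
  exact (H P).mul_mem h1 hh

theorem Simple.H_mul {J : Set G} (hJ : J ⊆ P.S) {r h : G} (hr : Simple P J r) (hh : h ∈ H P) :
    Simple P J (h * r) := by
  have hrN := hr.mem_N hJ
  have : h * r = r * (r⁻¹ * h * r) := by group
  rw [this]
  exact hr.mul_H (conj_mem_H' P hrN hh)

theorem Simple.inv {J : Set G} (hJ : J ⊆ P.S) {r : G} (hr : Simple P J r) :
    Simple P J r⁻¹ := by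
  obtain ⟨s, hs, h1⟩ := hr
  have hsS : s ∈ P.S := hJ hs
  have hsN : s ∈ P.N := P.subset hsS
  -- r = s h, r⁻¹ = h⁻¹ s⁻¹ = h⁻¹ s (s⁻¹ s⁻¹)
  have e : r⁻¹ = (s⁻¹ * r)⁻¹ * (s * (s * s)⁻¹) := by group
  rw [e]
  apply Simple.H_mul hJ _ ((H P).inv_mem h1)
  exact (simple_of_mem hs).mul_H ((H P).inv_mem (sq_mem_H hsS))

theorem Simple.sq_mem_H {J : Set G} (hJ : J ⊆ P.S) {r : G} (hr : Simple P J r) :
    r * r ∈ H P := by
  obtain ⟨s, hs, h1⟩ := hr
  have hsS : s ∈ P.S := hJ hs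
  have hsN : s ∈ P.N := P.subset hsS
  have e : r * r = (s * s) * (s⁻¹ * (s⁻¹ * r) * s) * (s⁻¹ * r) := by group
  rw [e]
  exact (H P).mul_mem ((H P).mul_mem (BN.sq_mem_H hsS) (conj_mem_H' P hsN h1)) h1

theorem not_mem_B_of_mem_S {s : G} (hs : s ∈ P.S) : s ∉ P.B := by
  intro hsB
  apply P.conj_ne s hs
  ext x
  constructor
  · rintro ⟨b, hb, rfl⟩
    exact P.B.mul_mem (P.B.mul_mem hsB hb) hsB
  · intro hx
    exact ⟨s⁻¹ * x * s⁻¹, P.B.mul_mem (P.B.mul_mem (P.B.inv_mem hsB) hx) (P.B.inv_mem hsB),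
      by group⟩

theorem Simple.not_mem_B {J : Set G} (hJ : J ⊆ P.S) {r : G} (hr : Simple P J r) : r ∉ P.B := by
  obtain ⟨s, hs, h1⟩ := hr
  intro hrB
  apply not_mem_B_of_mem_S (hJ hs)
  have : s = r * (s⁻¹ * r)⁻¹ := by group
  rw [this]
  exact P.B.mul_mem hrB (P.B.inv_mem (H_le_B P h1))

theorem Simple.not_mem_H {J : Set G} (hJ : J ⊆ P.S) {r : G} (hr : Simple P J r) : r ∉ H P :=
  fun h => hr.not_mem_B hJ (H_le_B P h)


theorem inv_mem_C_iff {n x : G} : x⁻¹ ∈ C P n⁻¹ ↔ x ∈ C P n := by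
  constructor
  · intro h
    have := inv_mem_C P h
    rwa [inv_inv, inv_inv] at this
  · exact inv_mem_C P

/-- left multiplication of a double coset by a simple element -/
theorem Simple.mul_mem_union {J : Set G} (hJ : J ⊆ P.S) {r n x : G} (hr : Simple P J r)
    (hn : n ∈ P.N) (hx : x ∈ C P n) : r * x ∈ C P (r * n) ∪ C P n := by
  obtain ⟨s, hs, h1⟩ := hr
  obtain ⟨b, hb, b', hb', rfl⟩ := (mem_C_iff P).mp hx
  have hsS : s ∈ P.S := hJ hs
  have key := P.mul_mem_union s hsS n hn ((s⁻¹ * r) * b) (P.B.mul_mem (H_le_B P h1) hb)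
  have e1 : r * (b * n * b') = (s * ((s⁻¹ * r) * b) * n) * b' := by group
  have e2 : C P (r * n) = C P (s * n) := by
    have : r * n = (s * n) * (n⁻¹ * (s⁻¹ * r) * n) := by group
    rw [this]
    exact C_mul_right P (H_le_B P (conj_mem_H' P hn h1))
  rw [e1, e2]
  rcases key with h | h
  · exact Or.inl (mem_C_mul P hb' h)
  · exact Or.inr (mem_C_mul P hb' h)

/-- right multiplication of a double coset by a simple element -/
theorem Simple.mem_union_mul {J : Set G} (hJ : J ⊆ P.S) {r n x : G} (hr : Simple P J r)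
    (hn : n ∈ P.N) (hx : x ∈ C P n) : x * r ∈ C P (n * r) ∪ C P n := by
  have h1 := (hr.inv hJ).mul_mem_union hJ (P.N.inv_mem hn) (inv_mem_C P hx)
  rcases h1 with h | h
  · left
    have := inv_mem_C P h
    simpa [mul_inv_rev] using this
  · right
    have := inv_mem_C P h
    simpa [mul_inv_rev] using this

/-- rank one lemma: `r B r` meets `B r B` -/
theorem Simple.exists_mul_mul_mem {J : Set G} (hJ : J ⊆ P.S) {r : G} (hr : Simple P J r) :
    ∃ b ∈ P.B, r * b * r ∈ C P r := by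
  obtain ⟨s, hs, h1⟩ := id hr
  have hsS : s ∈ P.S := hJ hs
  have hsN : s ∈ P.N := P.subset hsS
  have hs2 : s * s ∈ P.B := P.sq_mem s hsS
  -- first for s itself
  have hex : ∃ b ∈ P.B, s * b * s ∈ C P s := by
    by_contra hcon
    push Not at hcon
    have hsub : ∀ b ∈ P.B, s * b * s ∈ P.B := by
      intro b hb
      have := P.mul_mem_union s hsS s hsN b hb
      rcases this with h | h
      · have h' : s * b * s ∈ C P (s * s) := h
        rw [C_of_mem_B P hs2] at h'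
        exact h'
      · exact absurd h (hcon b hb)
    apply P.conj_ne s hsS
    ext x
    constructor
    · rintro ⟨b, hb, rfl⟩
      exact hsub b hb
    · intro hx
      refine ⟨s⁻¹ * x * s⁻¹, ?_, by group⟩
      have e : s⁻¹ * x * s⁻¹ = (s * s)⁻¹ * (s * x * s) * (s * s)⁻¹ := by group
      rw [e]
      exact P.B.mul_mem (P.B.mul_mem (P.B.inv_mem hs2) (hsub x hx)) (P.B.inv_mem hs2)
  obtain ⟨b0, hb0, hmem⟩ := hex
  refine ⟨(s⁻¹ * r)⁻¹ * b0, P.B.mul_mem (P.B.inv_mem (H_le_B P h1)) hb0, ?_⟩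
  have e : r * ((s⁻¹ * r)⁻¹ * b0) * r = (s * b0 * s) * (s⁻¹ * r) := by group
  rw [e]
  have e2 : C P r = C P s := by
    have : r = s * (s⁻¹ * r) := by group
    rw [this]
    exact C_mul_right P (H_le_B P h1)
  rw [e2]
  exact mem_C_mul P (H_le_B P h1) hmem

end Cfsg.Agent.Helper2.BN
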