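import Cfsg.Agent.Helper2.BN.Basic

set_option autoImplicit false

namespace Cfsg.Agent.Helper2.BN

open Cfsg DoubleCoset

variable {G : Type*} [Group G] (P : BNPair G)

/-- elements expressible as a product of `k` `J`-simple elements times an element of `H` -/
def Reach (J : Set G) : ℕ → Set G
  | 0 => (H P : Set G)
  | k + 1 => {n | ∃ r m, Simple P J r ∧ m ∈ Reach J k ∧ n = r * m}

variable {P}

theorem reach_zero {J : Set G} {n : G} : n ∈ Reach P J 0 ↔ n ∈ H P := Iff.rfl

theorem reach_succ {J : Set G} {k : ℕ} {n : G} :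
    n ∈ Reach P J (k + 1) ↔ ∃ r m, Simple P J r ∧ m ∈ Reach P J k ∧ n = r * m := Iff.rfl

theorem reach_mem_N {J : Set G} (hJ : J ⊆ P.S) {k : ℕ} {n : G} (hn : n ∈ Reach P J k) :
    n ∈ P.N := by
  induction k generalizing n with
  | zero => exact H_le_N P hn
  | succ k ih =>
    obtain ⟨r, m, hr, hm, rfl⟩ := hn
    exact P.N.mul_mem (hr.mem_N hJ) (ih hm)

theorem reach_mul_H {J : Set G} {k : ℕ} {n h : G} (hn : n ∈ Reach P J k) (hh : h ∈ H P) :
    n * h ∈ Reach P J k := by
  induction k generalizing n with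
  | zero => exact (H P).mul_mem hn hh
  | succ k ih =>
    obtain ⟨r, m, hr, hm, rfl⟩ := hn
    exact ⟨r, m * h, hr, ih hm, by group⟩

theorem reach_H_mul {J : Set G} (hJ : J ⊆ P.S) {k : ℕ} {n h : G} (hn : n ∈ Reach P J k)
    (hh : h ∈ H P) : h * n ∈ Reach P J k := by
  cases k with
  | zero => exact (H P).mul_mem hh hn
  | succ k =>
    obtain ⟨r, m, hr, hm, rfl⟩ := hn
    exact ⟨h * r, m, hr.H_mul hJ hh, hm, by group⟩

theorem reach_append {J : Set G} (hJ : J ⊆ P.S) {k : ℕ} {n r : G} (hn : n ∈ Reach P J k)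
    (hr : Simple P J r) : n * r ∈ Reach P J (k + 1) := by
  induction k generalizing n with
  | zero => exact ⟨n * r, 1, hr.H_mul hJ hn, (H P).one_mem, by group⟩
  | succ k ih =>
    obtain ⟨r', m, hr', hm, rfl⟩ := hn
    exact ⟨r', m * r, hr', ih hm, by group⟩

theorem reach_mul {J : Set G} (hJ : J ⊆ P.S) {j k : ℕ} {a b : G} (ha : a ∈ Reach P J j)
    (hb : b ∈ Reach P J k) : a * b ∈ Reach P J (j + k) := by
  induction j generalizing a with
  | zero => rw [Nat.zero_add]; exact reach_H_mul hJ hb ha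
  | succ j ih =>
    obtain ⟨r, m, hr, hm, rfl⟩ := ha
    rw [Nat.add_right_comm]
    exact ⟨r, m * b, hr, ih hm, by group⟩

theorem reach_inv {J : Set G} (hJ : J ⊆ P.S) {k : ℕ} {n : G} (hn : n ∈ Reach P J k) :
    n⁻¹ ∈ Reach P J k := by
  induction k generalizing n with
  | zero => exact (H P).inv_mem hn
  | succ k ih =>
    obtain ⟨r, m, hr, hm, rfl⟩ := hn
    rw [mul_inv_rev]
    exact reach_append hJ (ih hm) (hr.inv hJ)

theorem simple_mem_reach_one {J : Set G} {r : G} (hr : Simple P J r) : r ∈ Reach P J 1 :=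
  ⟨r, 1, hr, (H P).one_mem, by group⟩

variable (P)

/-- `N_J = ⟨J⟩ H` -/
def NJ (J : Set G) : Subgroup G := Subgroup.closure J ⊔ H P

/-- the subgroup of all reachable elements -/
def reachSubgroup (J : Set G) (hJ : J ⊆ P.S) : Subgroup G where
  carrier := {n | ∃ k, n ∈ Reach P J k}
  one_mem' := ⟨0, (H P).one_mem⟩
  mul_mem' := by
    rintro a b ⟨j, ha⟩ ⟨k, hb⟩
    exact ⟨j + k, reach_mul hJ ha hb⟩
  inv_mem' := by
    rintro a ⟨k, ha⟩
    exact ⟨k, reach_inv hJ ha⟩

variable {P}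

theorem reach_subset_NJ {J : Set G} {k : ℕ} {n : G} (hn : n ∈ Reach P J k) : n ∈ NJ P J := by
  induction k generalizing n with
  | zero => exact Subgroup.mem_sup_right hn
  | succ k ih =>
    obtain ⟨r, m, ⟨s, hs, h1⟩, hm, rfl⟩ := hn
    have e : r * m = s * (s⁻¹ * r) * m := by group
    rw [e]
    exact (NJ P J).mul_mem ((NJ P J).mul_mem
      (Subgroup.mem_sup_left (Subgroup.subset_closure hs)) (Subgroup.mem_sup_right h1)) (ih hm)

theorem mem_NJ_iff {J : Set G} (hJ : J ⊆ P.S) {n : G} :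
    n ∈ NJ P J ↔ ∃ k, n ∈ Reach P J k := by
  constructor
  · intro hn
    have hle : NJ P J ≤ reachSubgroup P J hJ := by
      apply sup_le
      · rw [Subgroup.closure_le]
        intro s hs
        exact ⟨1, simple_mem_reach_one (simple_of_mem hs)⟩
      · intro h hh
        exact ⟨0, hh⟩
    exact hle hn
  · rintro ⟨k, hk⟩
    exact reach_subset_NJ hk

theorem NJ_S_eq : NJ P P.S = P.N := P.closure_sup

theorem NJ_mono {J K : Set G} (hJK : J ⊆ K) : NJ P J ≤ NJ P K :=
  sup_le_sup_right (Subgroup.closure_mono hJK) _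

theorem NJ_le_N {J : Set G} (hJ : J ⊆ P.S) : NJ P J ≤ P.N := by
  rw [← NJ_S_eq]; exact NJ_mono hJ

theorem H_le_NJ {J : Set G} : H P ≤ NJ P J := le_sup_right

theorem Simple.mem_NJ {J : Set G} {r : G} (hr : Simple P J r) : r ∈ NJ P J :=
  reach_subset_NJ (simple_mem_reach_one hr)

variable (P)

/-- the `J`-length of an element -/
noncomputable def len (J : Set G) (n : G) : ℕ := sInf {k | n ∈ Reach P J k}

variable {P}

theorem mem_reach_len {J : Set G} (hJ : J ⊆ P.S) {n : G} (hn : n ∈ NJ P J) :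
    n ∈ Reach P J (len P J n) := by
  have : {k | n ∈ Reach P J k}.Nonempty := (mem_NJ_iff hJ).mp hn
  exact Nat.sInf_mem this

theorem len_le {J : Set G} {n : G} {k : ℕ} (hn : n ∈ Reach P J k) : len P J n ≤ k :=
  Nat.sInf_le hn

theorem len_eq_zero_iff {J : Set G} (hJ : J ⊆ P.S) {n : G} (hn : n ∈ NJ P J) :
    len P J n = 0 ↔ n ∈ H P := by
  constructor
  · intro h
    have := mem_reach_len hJ hn
    rwa [h] at this
  · intro h
    exact Nat.le_zero.mp (len_le (k := 0) h)

theorem len_mul_H {J : Set G} {n h : G} (hh : h ∈ H P) : len P J (n * h) = len P J n := by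
  unfold len
  congr 1
  ext k
  constructor
  · intro hk
    have := reach_mul_H hk ((H P).inv_mem hh)
    simpa using this
  · intro hk
    exact reach_mul_H hk hh

theorem len_H_mul {J : Set G} (hJ : J ⊆ P.S) {n h : G} (hh : h ∈ H P) :
    len P J (h * n) = len P J n := by
  unfold len
  congr 1
  ext k
  constructor
  · intro hk
    have := reach_H_mul hJ hk ((H P).inv_mem hh)
    simpa using this
  · intro hk
    exact reach_H_mul hJ hk hh

theorem len_inv {J : Set G} (hJ : J ⊆ P.S) {n : G} : len P J n⁻¹ = len P J n := by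
  unfold len
  congr 1
  ext k
  constructor
  · intro hk
    have := reach_inv hJ hk
    simpa using this
  · intro hk
    exact reach_inv hJ hk

theorem len_simple_mul_le {J : Set G} (hJ : J ⊆ P.S) {r n : G} (hr : Simple P J r)
    (hn : n ∈ NJ P J) : len P J (r * n) ≤ len P J n + 1 :=
  len_le ⟨r, n, hr, mem_reach_len hJ hn, rfl⟩

theorem len_le_simple_mul {J : Set G} (hJ : J ⊆ P.S) {r n : G} (hr : Simple P J r)
    (hn : n ∈ NJ P J) : len P J n ≤ len P J (r * n) + 1 := by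
  have h1 := len_simple_mul_le hJ (hr.inv hJ) ((NJ P J).mul_mem hr.mem_NJ hn)
  simpa using h1

theorem len_mul_simple_le {J : Set G} (hJ : J ⊆ P.S) {r n : G} (hr : Simple P J r)
    (hn : n ∈ NJ P J) : len P J (n * r) ≤ len P J n + 1 :=
  len_le (reach_append hJ (mem_reach_len hJ hn) hr)

theorem len_le_mul_simple {J : Set G} (hJ : J ⊆ P.S) {r n : G} (hr : Simple P J r)
    (hn : n ∈ NJ P J) : len P J n ≤ len P J (n * r) + 1 := by
  have h1 := len_mul_simple_le hJ (hr.inv hJ) ((NJ P J).mul_mem hn hr.mem_NJ)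
  simpa using h1

theorem len_simple {J : Set G} (hJ : J ⊆ P.S) {r : G} (hr : Simple P J r) : len P J r = 1 := by
  have h1 : len P J r ≤ 1 := len_le (simple_mem_reach_one hr)
  have h2 : len P J r ≠ 0 := by
    intro h
    exact hr.not_mem_H hJ ((len_eq_zero_iff hJ hr.mem_NJ).mp h)
  omega

theorem peel_left {J : Set G} (hJ : J ⊆ P.S) {n : G} {k : ℕ} (hn : n ∈ NJ P J)
    (hk : len P J n = k + 1) :
    ∃ r m, Simple P J r ∧ m ∈ NJ P J ∧ n = r * m ∧ len P J m = k := by
  have h1 := mem_reach_len hJ hn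
  rw [hk] at h1
  obtain ⟨r, m, hr, hm, rfl⟩ := h1
  have hmN : m ∈ NJ P J := reach_subset_NJ hm
  refine ⟨r, m, hr, hmN, rfl, ?_⟩
  have h2 : len P J m ≤ k := len_le hm
  have h3 := len_simple_mul_le hJ hr hmN
  omega

theorem peel_right {J : Set G} (hJ : J ⊆ P.S) {n : G} {k : ℕ} (hn : n ∈ NJ P J)
    (hk : len P J n = k + 1) :
    ∃ r m, Simple P J r ∧ m ∈ NJ P J ∧ n = m * r ∧ len P J m = k := by
  have hk' : len P J n⁻¹ = k + 1 := by rw [len_inv hJ]; exact hk
  obtain ⟨r, m, hr, hm, he, hl⟩ := peel_left hJ ((NJ P J).inv_mem hn) hk'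
  refine ⟨r⁻¹, m⁻¹, hr.inv hJ, (NJ P J).inv_mem hm, ?_, ?_⟩
  · rw [← mul_inv_rev, ← he, inv_inv]
  · rw [len_inv hJ]; exact hl

end Cfsg.Agent.Helper2.BN
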