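import Cfsg.Agent.Helper2.BN.Parabolic

set_option autoImplicit false

namespace Cfsg.Agent.Helper2.BN

open Cfsg DoubleCoset

variable {G : Type*} [Group G] {P : BNPair G}

theorem parabolic_S_eq_top : P.parabolic P.S = ⊤ := by
  rw [eq_top_iff, ← P.sup_eq_top]
  apply sup_le (B_le_parabolic _)
  rw [← P.closure_sup]
  exact NJ_le_parabolic P.S

theorem rank_one_cases {s : G} (hS : P.S = {s}) (g : G) : g ∈ P.B ∨ g ∈ C P s := by
  have hs : s ∈ P.S := by rw [hS]; exact Set.mem_singleton s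
  have h1 : g ∈ (P.parabolic {s} : Set G) := by
    rw [← hS, parabolic_S_eq_top]; exact Set.mem_univ g
  rw [parabolic_singleton_coe hs] at h1
  exact h1

theorem rank_one_two_transitive (h : P.rank = 1) :
    MulAction.IsMultiplyPretransitive G (G ⧸ P.B) 2 := by
  obtain ⟨⟨s, hs⟩, hall⟩ := Nat.card_eq_one_iff_exists.mp h
  have hS : P.S = {s} := by
    ext x
    constructor
    · intro hx
      have := hall ⟨x, hx⟩
      exact congrArg Subtype.val this
    · rintro rfl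
      exact hs
  -- any pair of distinct cosets can be moved to (B, sB)
  have key : ∀ a b : G ⧸ P.B, a ≠ b → ∃ g : G, g • a = ((1 : G) : G ⧸ P.B) ∧
      g • b = ((s : G) : G ⧸ P.B) := by
    intro a b hab
    obtain ⟨x, rfl⟩ := QuotientGroup.mk_surjective a
    obtain ⟨y, rfl⟩ := QuotientGroup.mk_surjective b
    have hxy : x⁻¹ * y ∉ P.B := fun h => hab (QuotientGroup.eq.mpr h)
    rcases rank_one_cases hS (x⁻¹ * y) with h1 | h1
    · exact absurd h1 hxy
    · obtain ⟨b1, hb1, b2, hb2, he⟩ := (mem_C_iff P).mp h1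
      refine ⟨b1⁻¹ * x⁻¹, ?_, ?_⟩
      · rw [MulAction.Quotient.smul_mk, QuotientGroup.eq, smul_eq_mul]
        have e : (b1⁻¹ * x⁻¹ * x)⁻¹ * 1 = b1 := by group
        rw [e]; exact hb1
      · rw [MulAction.Quotient.smul_mk, QuotientGroup.eq, smul_eq_mul]
        have e : (b1⁻¹ * x⁻¹ * y)⁻¹ * s = (b1⁻¹ * (x⁻¹ * y))⁻¹ * s := by group
        rw [e, he]
        have e2 : (b1⁻¹ * (b1 * s * b2))⁻¹ * s = b2⁻¹ := by group
        rw [e2]; exact P.B.inv_mem hb2
  rw [MulAction.is_two_pretransitive_iff]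
  intro a b c d hab hcd
  obtain ⟨g1, h1, h2⟩ := key a b hab
  obtain ⟨g2, h3, h4⟩ := key c d hcd
  refine ⟨g2⁻¹ * g1, ?_, ?_⟩
  · rw [mul_smul, h1, ← h3, inv_smul_smul]
  · rw [mul_smul, h2, ← h4, inv_smul_smul]

end Cfsg.Agent.Helper2.BN
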